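import Mathlib.RingTheory.Etale.Kaehler
import Mathlib.RingTheory.Etale.Locus
import Mathlib.RingTheory.Smooth.Locus
import Mathlib.RingTheory.Ideal.Cotangent
import Mathlib.LinearAlgebra.Dual.Lemmas
import Mathlib.RingTheory.Nakayama
import Mathlib.RingTheory.Kaehler.JacobiZariski

/-! Morphisms étale along a section with isomorphic conormal modules. -/

set_option autoImplicit false

namespace Groth.L15.BBDec

open TensorProduct

universe u

section Local

variable {S : Type u} [CommRing S] [IsLocalRing S]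

local notation "𝔪" => IsLocalRing.maximalIdeal S
local notation "κ" => S ⧸ IsLocalRing.maximalIdeal S

theorem mem_smul_top_of_forall_dual {M : Type u} [AddCommGroup M] [Module S M] {x : M}
    (h : ∀ φ : M →ₗ[S] κ, φ x = 0) : x ∈ 𝔪 • (⊤ : Submodule S M) := by
  letI : Field κ := Ideal.Quotient.field _
  rw [← Submodule.Quotient.mk_eq_zero]
  rw [← Module.forall_dual_apply_eq_zero_iff κ]
  intro ψ
  let φ : M →ₗ[S] κ :=
    { toFun := fun y => ψ (Submodule.Quotient.mk y)
      map_add' := fun a b => by simp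
      map_smul' := fun s y => by
        have h2 : (Submodule.Quotient.mk (s • y) : M ⧸ 𝔪 • (⊤ : Submodule S M)) =
            (Ideal.Quotient.mk 𝔪 s) • Submodule.Quotient.mk y := rfl
        simp only [RingHom.id_apply]
        rw [h2, map_smul]
        rfl }
  exact h φ

theorem subsingleton_of_forall_dual {M : Type u} [AddCommGroup M] [Module S M] [Module.Finite S M]
    (h : ∀ φ : M →ₗ[S] κ, φ = 0) : Subsingleton M := by
  have : (⊤ : Submodule S M) = ⊥ :=
    Submodule.eq_bot_of_le_smul_of_le_jacobson_bot 𝔪 _ Module.Finite.fg_top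
      (fun x _ => mem_smul_top_of_forall_dual fun φ => by rw [h φ]; rfl)
      (by rw [IsLocalRing.jacobson_eq_maximalIdeal ⊥ bot_ne_top])
  exact ⟨fun a b => by
    have ha : a ∈ (⊥ : Submodule S M) := this ▸ Submodule.mem_top
    have hb : b ∈ (⊥ : Submodule S M) := this ▸ Submodule.mem_top
    rw [(Submodule.mem_bot S).1 ha, (Submodule.mem_bot S).1 hb]⟩

theorem injective_of_forall_dual {M N : Type u} [AddCommGroup M] [Module S M] [Module.Finite S M]
    [AddCommGroup N] [Module S N] [Module.Projective S N] (m : M →ₗ[S] N) (hm : Function.Surjective m)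
    (h : ∀ φ : M →ₗ[S] κ, ∃ g : N →ₗ[S] κ, ∀ x, φ x = g (m x)) : Function.Injective m := by
  obtain ⟨s, hs⟩ := Module.projective_lifting_property m LinearMap.id hm
  have hs' : ∀ y, m (s y) = y := fun y => LinearMap.congr_fun hs y
  let e : M →ₗ[S] M := LinearMap.id - s ∘ₗ m
  have he : ∀ x, m (e x) = 0 := fun x => by simp [e, hs']
  have hker : LinearMap.range e = LinearMap.ker m := le_antisymm
    (by rintro _ ⟨x, rfl⟩; exact he x)
    (fun x hx => ⟨x, by simp [e, LinearMap.mem_ker.1 hx]⟩)
  have hfg : (LinearMap.range e).FG := by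
    rw [← Submodule.map_top]; exact Submodule.FG.map e Module.Finite.fg_top
  have hle : LinearMap.range e ≤ 𝔪 • LinearMap.range e := by
    intro x hx
    have hx0 : m x = 0 := LinearMap.mem_ker.1 (hker ▸ hx)
    have h1 : x ∈ 𝔪 • (⊤ : Submodule S M) := mem_smul_top_of_forall_dual fun φ => by
      obtain ⟨g, hg⟩ := h φ
      rw [hg, hx0, map_zero]
    have h2 := Submodule.mem_map_of_mem (f := e) h1
    rw [Submodule.map_smul'', Submodule.map_top] at h2
    rwa [show e x = x by simp [e, hx0]] at h2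
  have hbot := Submodule.eq_bot_of_le_smul_of_le_jacobson_bot 𝔪 _ hfg hle
    (by rw [IsLocalRing.jacobson_eq_maximalIdeal ⊥ bot_ne_top])
  rw [← LinearMap.ker_eq_bot, ← hker, hbot]

end Local

section Main

variable {A B₁ B₂ : Type u} [CommRing A] [CommRing B₁] [CommRing B₂] [Algebra A B₁] [Algebra A B₂] [Algebra B₂ B₁]
  [IsScalarTower A B₂ B₁]

/-- Derivations at the section extend uniquely along the map. -/
theorem exists_derivation (σ₁ : B₁ →ₐ[A] A) (σ₂ : B₂ →ₐ[A] A)
    (hσ : σ₁.comp (IsScalarTower.toAlgHom A B₂ B₁) = σ₂)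
    (hle : RingHom.ker σ₂ ≤ (RingHom.ker σ₁).comap (IsScalarTower.toAlgHom A B₂ B₁))
    (hcot : Function.Bijective
      (Ideal.mapCotangent (RingHom.ker σ₂) (RingHom.ker σ₁) (IsScalarTower.toAlgHom A B₂ B₁) hle))
    {K : Type u} [CommRing K] [Algebra A K] [Algebra B₁ K] [Algebra B₂ K] [IsScalarTower A B₁ K]
    [IsScalarTower B₂ B₁ K] [IsScalarTower A B₂ K] (hK : ∀ b ∈ RingHom.ker σ₁, algebraMap B₁ K b = 0) :
    (∀ D : Derivation A B₂ K, ∃ D₁ : Derivation A B₁ K, ∀ b, D₁ (algebraMap B₂ B₁ b) = D b) ∧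
    (∀ D₁ : Derivation B₂ B₁ K, ∀ b, D₁ b = 0) := by
  have hmem : ∀ b : B₁, b - algebraMap A B₁ (σ₁ b) ∈ RingHom.ker σ₁ := fun b => by
    rw [RingHom.mem_ker, map_sub, AlgHom.commutes]; simp
  have hlift : ∀ b : B₁, ∃ c ∈ RingHom.ker σ₂,
      algebraMap B₂ B₁ c - (b - algebraMap A B₁ (σ₁ b)) ∈ RingHom.ker σ₁ ^ 2 := fun b => by
    obtain ⟨z, hz⟩ := hcot.2 ((RingHom.ker σ₁).toCotangent ⟨_, hmem b⟩)
    obtain ⟨c, rfl⟩ := (RingHom.ker σ₂).toCotangent_surjective z
    rw [Ideal.mapCotangent_toCotangent, Ideal.toCotangent_eq] at hz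
    exact ⟨c, c.2, hz⟩
  choose c hc hcb using hlift
  have hK2 : ∀ x ∈ RingHom.ker σ₂, algebraMap B₂ K x = 0 := fun x hx => by
    rw [IsScalarTower.algebraMap_apply B₂ B₁ K]
    exact hK _ (hle hx)
  constructor
  · intro D
    have hD2 : ∀ x ∈ RingHom.ker σ₂ ^ 2, D x = 0 := fun x hx => by
      rw [pow_two] at hx
      induction hx using Submodule.mul_induction_on' with
      | mem_mul_mem y hy z hz =>
        rw [D.leibniz, Algebra.smul_def, Algebra.smul_def, hK2 y hy, hK2 z hz, zero_mul, zero_mul, add_zero]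
      | add y _ z _ hy hz => rw [map_add, hy, hz, add_zero]
    have huniq : ∀ b x, x ∈ RingHom.ker σ₂ →
        algebraMap B₂ B₁ x - (b - algebraMap A B₁ (σ₁ b)) ∈ RingHom.ker σ₁ ^ 2 → D x = D (c b) := by
      intro b x hx hxb
      have hd : algebraMap B₂ B₁ x - algebraMap B₂ B₁ (c b) ∈ RingHom.ker σ₁ ^ 2 := by
        simpa using Submodule.sub_mem _ hxb (hcb b)
      have : (RingHom.ker σ₂).toCotangent ⟨x, hx⟩ = (RingHom.ker σ₂).toCotangent ⟨c b, hc b⟩ := hcot.1 (by
        rw [Ideal.mapCotangent_toCotangent, Ideal.mapCotangent_toCotangent, Ideal.toCotangent_eq]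
        exact hd)
      have h2 := hD2 _ ((Ideal.toCotangent_eq _).1 this)
      rw [map_sub, sub_eq_zero] at h2
      exact h2
    have hsmulA : ∀ (a : A) (x : B₂), x ∈ RingHom.ker σ₂ → a • x ∈ RingHom.ker σ₂ := fun a x hx => by
      rw [RingHom.mem_ker, map_smul, RingHom.mem_ker.1 hx, smul_zero]
    have hact : ∀ (b : B₁) (k : K), b • k = σ₁ b • k := fun b k => by
      have := hK _ (hmem b)
      rw [map_sub, sub_eq_zero, ← IsScalarTower.algebraMap_apply] at this
      rw [Algebra.smul_def, Algebra.smul_def, this]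
    let L : B₁ →ₗ[A] K :=
      { toFun := fun b => D (c b)
        map_add' := fun b b' => by
          rw [← map_add]
          refine (huniq (b + b') _ (Submodule.add_mem _ (hc b) (hc b')) ?_).symm
          convert Submodule.add_mem _ (hcb b) (hcb b') using 1
          simp only [map_add]; ring
        map_smul' := fun a b => by
          rw [RingHom.id_apply, ← Derivation.map_smul]
          refine (huniq (a • b) _ (hsmulA a _ (hc b)) ?_).symm
          convert Submodule.smul_of_tower_mem (RingHom.ker σ₁ ^ 2) a (hcb b) using 1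
          simp only [Algebra.smul_def, map_mul, ← IsScalarTower.algebraMap_apply, AlgHom.commutes, Algebra.algebraMap_self, RingHom.id_apply]
          ring }
    refine ⟨Derivation.mk' L fun b b' => ?_, fun x => ?_⟩
    · show D (c (b * b')) = b • D (c b') + b' • D (c b)
      rw [hact, hact, ← Derivation.map_smul, ← Derivation.map_smul, ← map_add]
      refine (huniq _ _ (Submodule.add_mem _ (hsmulA _ _ (hc b')) (hsmulA _ _ (hc b))) ?_).symm
      have h := Submodule.add_mem _ (Submodule.smul_of_tower_mem (RingHom.ker σ₁ ^ 2) (σ₁ b) (hcb b'))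
        (Submodule.smul_of_tower_mem (RingHom.ker σ₁ ^ 2) (σ₁ b') (hcb b))
      have h2 : (b - algebraMap A B₁ (σ₁ b)) * (b' - algebraMap A B₁ (σ₁ b')) ∈ RingHom.ker σ₁ ^ 2 := by
        rw [pow_two]; exact Ideal.mul_mem_mul (hmem b) (hmem b')
      convert Submodule.sub_mem _ h h2 using 1
      simp only [map_add, Algebra.smul_def, map_mul, ← IsScalarTower.algebraMap_apply]
      ring
    · show D (c (algebraMap B₂ B₁ x)) = D x
      have hs : σ₁ (algebraMap B₂ B₁ x) = σ₂ x := DFunLike.congr_fun hσ x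
      have hx : x - algebraMap A B₂ (σ₂ x) ∈ RingHom.ker σ₂ := by
        rw [RingHom.mem_ker, map_sub, AlgHom.commutes]; simp
      rw [← huniq _ _ hx (by simp [hs, ← IsScalarTower.algebraMap_apply]), map_sub, Derivation.map_algebraMap, sub_zero]
  · intro D₁ b
    have hD2 : ∀ x ∈ RingHom.ker σ₁ ^ 2, D₁ x = 0 := fun x hx => by
      rw [pow_two] at hx
      induction hx using Submodule.mul_induction_on' with
      | mem_mul_mem y hy z hz =>
        rw [D₁.leibniz, Algebra.smul_def, Algebra.smul_def, hK y hy, hK z hz, zero_mul, zero_mul, add_zero]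
      | add y _ z _ hy hz => rw [map_add, hy, hz, add_zero]
    have h := hD2 _ (hcb b)
    rw [map_sub, map_sub, IsScalarTower.algebraMap_apply A B₂ B₁, Derivation.map_algebraMap,
      Derivation.map_algebraMap, sub_zero, zero_sub, neg_eq_zero] at h
    exact h

variable [Algebra.FiniteType A B₂] [Algebra.FiniteType A B₁]

theorem formallyEtale_of_section (σ₁ : B₁ →ₐ[A] A) (σ₂ : B₂ →ₐ[A] A)
    (hσ : σ₁.comp (IsScalarTower.toAlgHom A B₂ B₁) = σ₂)
    (hle : RingHom.ker σ₂ ≤ (RingHom.ker σ₁).comap (IsScalarTower.toAlgHom A B₂ B₁))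
    (hcot : Function.Bijective
      (Ideal.mapCotangent (RingHom.ker σ₂) (RingHom.ker σ₁) (IsScalarTower.toAlgHom A B₂ B₁) hle))
    (P : Ideal B₁) [P.IsPrime] (hP : RingHom.ker σ₁ ≤ P)
    (S : Type u) [CommRing S] [IsLocalRing S] [Algebra A S] [Algebra B₁ S] [Algebra B₂ S] [IsScalarTower A B₁ S]
    [IsScalarTower B₂ B₁ S] [IsScalarTower A B₂ S] [IsLocalization.AtPrime S P] [Algebra.FormallySmooth A S] :
    Algebra.FormallyEtale B₂ S := by
  let K := S ⧸ IsLocalRing.maximalIdeal S
  have hK : ∀ b ∈ RingHom.ker σ₁, algebraMap B₁ K b = 0 := fun b hb => by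
    rw [IsScalarTower.algebraMap_apply B₁ S K, Ideal.Quotient.algebraMap_eq, Ideal.Quotient.eq_zero_iff_mem]
    exact (IsLocalization.AtPrime.to_map_mem_maximal_iff S P b).2 (hP hb)
  obtain ⟨hext, hzero⟩ := exists_derivation σ₁ σ₂ hσ hle hcot hK
  haveI : Algebra.FormallyEtale B₁ S := Algebra.FormallyEtale.of_isLocalization P.primeCompl
  let e := KaehlerDifferential.tensorKaehlerEquivOfFormallyEtale A B₁ S
  haveI : Module.Finite B₁ Ω[B₁⁄A] := KaehlerDifferential.finite A B₁
  haveI : Module.Finite B₂ Ω[B₂⁄A] := KaehlerDifferential.finite A B₂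
  haveI : Module.Finite S Ω[S⁄A] := Module.Finite.equiv e
  haveI : Module.Finite S Ω[S⁄B₂] :=
    Module.Finite.of_surjective (KaehlerDifferential.map A B₂ S S) (KaehlerDifferential.map_surjective A B₂ S)
  have hsub : Subsingleton Ω[S⁄B₂] := subsingleton_of_forall_dual fun φ => by
    refine LinearMap.ext_on (KaehlerDifferential.span_range_derivation B₂ S) ?_
    rintro _ ⟨x, rfl⟩
    let D1 : Derivation B₂ B₁ K :=
      ((φ.compDer (KaehlerDifferential.D B₂ S)).compAlgebraMap B₁)
    have hz : ∀ b, φ (KaehlerDifferential.D B₂ S (algebraMap B₁ S b)) = 0 := hzero D1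
    obtain ⟨⟨b, s⟩, hbs⟩ := IsLocalization.surj P.primeCompl x
    have h := congrArg (fun y => φ (KaehlerDifferential.D B₂ S y)) hbs
    simp only [Derivation.leibniz, map_add, map_smul, hz, smul_zero, zero_add] at h
    exact (IsLocalization.map_units S s).smul_eq_zero.1 h
  refine ⟨hsub, ?_⟩
  let m := KaehlerDifferential.mapBaseChange A B₂ S
  have hm : Function.Surjective m := fun x =>
    (KaehlerDifferential.exact_mapBaseChange_map A B₂ S x).1 (Subsingleton.elim _ _)
  haveI : Module.Projective S Ω[S⁄A] := Algebra.FormallySmooth.projective_kaehlerDifferential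
  have hinj : Function.Injective m := injective_of_forall_dual m hm fun φ => by
    let D : Derivation A B₂ K :=
      (((φ.restrictScalars B₂).comp (TensorProduct.mk B₂ S Ω[B₂⁄A] 1))).compDer (KaehlerDifferential.D A B₂)
    obtain ⟨D₁, hD₁⟩ := hext D
    let g : Ω[S⁄A] →ₗ[S] K := (D₁.liftKaehlerDifferential.liftBaseChange S).comp e.symm.toLinearMap
    refine ⟨g, fun x => ?_⟩
    induction x using TensorProduct.induction_on with
    | zero => simp
    | add x y hx hy => simp only [map_add, hx, hy]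
    | tmul s ω =>
      have hω : ω ∈ Submodule.span B₂ (Set.range (KaehlerDifferential.D A B₂)) :=
        KaehlerDifferential.span_range_derivation A B₂ ▸ Submodule.mem_top
      induction hω using Submodule.span_induction generalizing s with
      | mem y hy =>
        obtain ⟨b, rfl⟩ := hy
        rw [show m (s ⊗ₜ KaehlerDifferential.D A B₂ b) = s • KaehlerDifferential.D A S (algebraMap B₂ S b) by
          rw [KaehlerDifferential.mapBaseChange_tmul, KaehlerDifferential.map_D], map_smul]
        rw [show g (KaehlerDifferential.D A S (algebraMap B₂ S b)) = D b by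
          rw [IsScalarTower.algebraMap_apply B₂ B₁ S]
          show D₁.liftKaehlerDifferential.liftBaseChange S (e.symm _) = _
          rw [KaehlerDifferential.tensorKaehlerEquivOfFormallyEtale_symm_D_algebraMap, LinearMap.liftBaseChange_tmul,
            one_smul, Derivation.liftKaehlerDifferential_comp_D, hD₁]]
        show _ = s • φ ((1 : S) ⊗ₜ KaehlerDifferential.D A B₂ b)
        rw [← map_smul, TensorProduct.smul_tmul', smul_eq_mul, mul_one]
      | zero => simp
      | add a b _ _ ha hb => rw [TensorProduct.tmul_add, map_add, map_add, map_add, ha, hb]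
      | smul r y _ hy => rw [← TensorProduct.smul_tmul, hy]
  haveI : Subsingleton (Algebra.H1Cotangent A S) := Algebra.FormallySmooth.subsingleton_h1Cotangent
  refine ⟨fun a b => ?_⟩
  have h0 : ∀ a, Algebra.H1Cotangent.δ A B₂ S a = 0 := fun a =>
    hinj (((Algebra.H1Cotangent.exact_δ_mapBaseChange A B₂ S).apply_apply_eq_zero a).trans (map_zero m).symm)
  obtain ⟨a', rfl⟩ := (Algebra.H1Cotangent.exact_map_δ A B₂ S a).1 (h0 a)
  obtain ⟨b', rfl⟩ := (Algebra.H1Cotangent.exact_map_δ A B₂ S b).1 (h0 b)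
  rw [Subsingleton.elim a' b']

end Main

end Groth.L15.BBDec
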