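import Groth.Agent.L15.BBDec.Smooth
import Mathlib.RingTheory.GradedAlgebra.Homogeneous.Ideal
import Mathlib.RingTheory.Ideal.Cotangent
import Mathlib.RingTheory.Polynomial.Basic
import Mathlib.LinearAlgebra.Dimension.StrongRankCondition

/-! Graded algebras smooth along the zero section are polynomial. -/

set_option autoImplicit false

namespace Groth.L15.BBDec

open DirectSum MvPolynomial

universe u

variable {A B : Type u} [CommRing A] [CommRing B] [Algebra A B] (𝒜 : ℕ → Submodule A B) [GradedAlgebra 𝒜]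

set_option quotPrecheck false in
local notation "I₊" => (HomogeneousIdeal.irrelevant 𝒜).toIdeal

/-- The projection to degree `d`, as a linear map. -/
noncomputable def pr (d : ℕ) : B →ₗ[A] B :=
  (𝒜 d).subtype ∘ₗ DFinsupp.lapply d ∘ₗ (DirectSum.decomposeLinearEquiv 𝒜).toLinearMap

theorem pr_mem (d : ℕ) (b : B) : pr 𝒜 d b ∈ 𝒜 d := (DirectSum.decompose 𝒜 b d).2

theorem pr_of_mem {d : ℕ} {b : B} (h : b ∈ 𝒜 d) : pr 𝒜 d b = b := DirectSum.decompose_of_mem_same 𝒜 h

theorem pr_of_mem_ne {d e : ℕ} {b : B} (h : b ∈ 𝒜 d) (hne : d ≠ e) : pr 𝒜 e b = 0 :=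
  DirectSum.decompose_of_mem_ne 𝒜 h hne

theorem mem_aug_iff (b : B) : b ∈ I₊ ↔ pr 𝒜 0 b = 0 := Iff.rfl

theorem pr_mem_aug {d : ℕ} (hd : d ≠ 0) (b : B) : pr 𝒜 d b ∈ I₊ :=
  (mem_aug_iff 𝒜 _).2 (pr_of_mem_ne 𝒜 (pr_mem 𝒜 d b) hd)

theorem exists_finset_sum (b : B) : ∃ s : Finset ℕ, b = ∑ d ∈ s, pr 𝒜 d b := by
  classical exact ⟨_, (DirectSum.sum_support_decompose 𝒜 b).symm⟩

/-- A product of elements of positive degree is, in degree `d`, a sum of products of lower degree. -/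
theorem pr_mul_mem {S : AddSubmonoid B} {d : ℕ} {x y : B} (hx : x ∈ I₊) (hy : y ∈ I₊)
    (hS : ∀ i j : ℕ, i ≠ 0 → j ≠ 0 → i + j = d → pr 𝒜 i x * pr 𝒜 j y ∈ S) : pr 𝒜 d (x * y) ∈ S := by
  classical
  obtain ⟨s, hs⟩ := exists_finset_sum 𝒜 x
  obtain ⟨t, ht⟩ := exists_finset_sum 𝒜 y
  rw [show x * y = ∑ i ∈ s, ∑ j ∈ t, pr 𝒜 i x * pr 𝒜 j y by rw [← Finset.sum_mul_sum, ← hs, ← ht], map_sum]
  refine AddSubmonoid.sum_mem _ fun i _ => ?_
  rw [map_sum]
  refine AddSubmonoid.sum_mem _ fun j _ => ?_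
  have hm := SetLike.mul_mem_graded (A := 𝒜) (pr_mem 𝒜 i x) (pr_mem 𝒜 j y)
  by_cases hij : i + j = d
  · rw [← hij, pr_of_mem 𝒜 hm]
    by_cases hi : i = 0
    · subst hi; rw [(mem_aug_iff 𝒜 x).1 hx, zero_mul]; exact S.zero_mem
    by_cases hj : j = 0
    · subst hj; rw [(mem_aug_iff 𝒜 y).1 hy, mul_zero]; exact S.zero_mem
    exact hS i j hi hj hij
  · rw [pr_of_mem_ne 𝒜 hm hij]; exact S.zero_mem

theorem pr_sq_mem {d : ℕ} {b : B} (hb : b ∈ I₊ ^ 2) : pr 𝒜 d b ∈ I₊ ^ 2 := by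
  rw [pow_two] at hb ⊢
  induction hb using Submodule.mul_induction_on' with
  | mem_mul_mem x hx y hy =>
    exact pr_mul_mem 𝒜 (S := (I₊ * I₊).toAddSubmonoid) hx hy fun i j hi hj _ =>
      Ideal.mul_mem_mul (pr_mem_aug 𝒜 hi x) (pr_mem_aug 𝒜 hj y)
  | add x _ y _ hx hy => rw [map_add]; exact Submodule.add_mem _ hx hy

/-- The degree `d` projection on the augmentation ideal. -/
noncomputable def prI (d : ℕ) : I₊ →ₗ[A] I₊ where
  toFun x := ⟨if d = 0 then 0 else pr 𝒜 d x, by split_ifs with h; exacts [zero_mem _, pr_mem_aug 𝒜 h x]⟩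
  map_add' x y := Subtype.ext (by
    show (if d = 0 then (0 : B) else pr 𝒜 d ((x : B) + y)) =
      (if d = 0 then (0 : B) else pr 𝒜 d x) + (if d = 0 then (0 : B) else pr 𝒜 d y)
    split_ifs <;> simp)
  map_smul' a x := Subtype.ext (by
    show (if d = 0 then (0 : B) else pr 𝒜 d (a • (x : B))) = a • (if d = 0 then (0 : B) else pr 𝒜 d x)
    split_ifs <;> simp)

theorem prI_val (d : ℕ) (x : I₊) : (prI 𝒜 d x : B) = pr 𝒜 d x := by
  show (if d = 0 then 0 else pr 𝒜 d x) = _
  split_ifs with h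
  · subst h; exact ((mem_aug_iff 𝒜 _).1 x.2).symm
  · rfl

theorem toCotangent_prI_congr (d : ℕ) {x y : I₊} (h : (I₊).toCotangent x = (I₊).toCotangent y) :
    (I₊).toCotangent (prI 𝒜 d x) = (I₊).toCotangent (prI 𝒜 d y) := by
  rw [Ideal.toCotangent_eq] at h ⊢
  rw [prI_val, prI_val, ← map_sub]
  exact pr_sq_mem 𝒜 h

/-- Homogeneous lifting of the conormal module. -/
theorem exists_generators [Module.Free A (I₊).Cotangent] [Module.Finite A (I₊).Cotangent] :
    ∃ G : (I₊).Cotangent →ₗ[A] I₊, (∀ c, (I₊).toCotangent (G c) = c) ∧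
      ∀ d, d ≠ 0 → ∀ b (hb : b ∈ I₊), b ∈ 𝒜 d → (G ((I₊).toCotangent ⟨b, hb⟩) : B) ∈ 𝒜 d := by
  classical
  let q : I₊ →ₗ[A] (I₊).Cotangent := (I₊).toCotangent.restrictScalars A
  obtain ⟨s₀, hs₀⟩ := Module.projective_lifting_property q LinearMap.id (I₊).toCotangent_surjective
  have hs : ∀ c, q (s₀ c) = c := fun c => LinearMap.congr_fun hs₀ c
  let bs := Module.Free.chooseBasis A (I₊).Cotangent
  let D : Finset ℕ := (Finset.univ.biUnion fun i => (DirectSum.decompose 𝒜 ((s₀ (bs i) : I₊) : B)).support).erase 0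
  let G : (I₊).Cotangent →ₗ[A] I₊ := ∑ d ∈ D, prI 𝒜 d ∘ₗ s₀ ∘ₗ q ∘ₗ prI 𝒜 d ∘ₗ s₀
  have hD : ∀ c, ∀ d ∉ D, prI 𝒜 d (s₀ c) = 0 := by
    intro c d hd
    have : prI 𝒜 d ∘ₗ s₀ = 0 := bs.ext fun i => Subtype.ext <| by
      rw [LinearMap.comp_apply, prI_val]
      by_cases h : d = 0
      · subst h; exact (mem_aug_iff 𝒜 _).1 (s₀ (bs i)).2
      · have h1 : d ∉ (DirectSum.decompose 𝒜 ((s₀ (bs i) : I₊) : B)).support := fun h' =>
          hd (Finset.mem_erase.2 ⟨h, Finset.mem_biUnion.2 ⟨i, Finset.mem_univ i, h'⟩⟩)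
        show ((DirectSum.decompose 𝒜 ((s₀ (bs i) : I₊) : B)) d : B) = _
        rw [DFinsupp.notMem_support_iff.1 h1]; rfl
    exact LinearMap.congr_fun this c
  have hv : ∀ d c, q (prI 𝒜 d (s₀ (q (prI 𝒜 d (s₀ c))))) = q (prI 𝒜 d (s₀ c)) := fun d c => by
    refine (toCotangent_prI_congr 𝒜 d (y := prI 𝒜 d (s₀ c)) (hs _)).trans (congrArg q (Subtype.ext ?_))
    rw [prI_val, prI_val, pr_of_mem 𝒜 (pr_mem 𝒜 d _)]
  have hG : ∀ c, G c = ∑ d ∈ D, prI 𝒜 d (s₀ (q (prI 𝒜 d (s₀ c)))) := fun c => by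
    simp only [G, LinearMap.coe_sum, Finset.sum_apply, LinearMap.comp_apply]
  refine ⟨G, fun c => ?_, fun d hd b hb hbd => ?_⟩
  · show q (G c) = c
    rw [hG, map_sum, Finset.sum_congr rfl fun d _ => hv d c]
    refine (map_sum q _ D).symm.trans ?_
    refine (congrArg q ?_).trans (hs c)
    refine Subtype.ext ?_
    obtain ⟨t, ht⟩ := exists_finset_sum 𝒜 ((s₀ c : I₊) : B)
    rw [AddSubmonoidClass.coe_finsetSum]
    have hz : ∀ e ∉ D, pr 𝒜 e ((s₀ c : I₊) : B) = 0 := fun e he => by rw [← prI_val, hD c e he]; rfl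
    rw [Finset.sum_congr rfl fun e _ => prI_val 𝒜 e (s₀ c)]
    conv_rhs => rw [ht]
    have htz : ∀ e ∉ t, pr 𝒜 e ((s₀ c : I₊) : B) = 0 := fun e he => by
      conv_lhs => rw [ht]
      rw [map_sum]
      exact Finset.sum_eq_zero fun i hi => pr_of_mem_ne 𝒜 (pr_mem 𝒜 i _) fun h => he (h ▸ hi)
    rw [Finset.sum_subset (Finset.subset_union_left (s₂ := t)) (fun e _ he => hz e he),
      Finset.sum_subset (Finset.subset_union_right (s₁ := D)) (fun e _ he => htz e he)]
  · rw [hG, AddSubmonoidClass.coe_finsetSum]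
    refine Submodule.sum_mem _ fun e _ => ?_
    by_cases he : e = d
    · subst he; rw [prI_val]; exact pr_mem 𝒜 e _
    · have h0 : q (prI 𝒜 e (s₀ ((I₊).toCotangent ⟨b, hb⟩))) = 0 := by
        refine (toCotangent_prI_congr 𝒜 e (y := ⟨b, hb⟩) (hs _)).trans ?_
        rw [show prI 𝒜 e ⟨b, hb⟩ = 0 from Subtype.ext (by rw [prI_val]; exact pr_of_mem_ne 𝒜 hbd (Ne.symm he))]
        exact map_zero _
      rw [h0, map_zero, map_zero]
      exact Submodule.zero_mem _

/-- The theorem. -/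
theorem nonempty_algEquiv_mvPolynomial [IsNoetherianRing A] [Module.Free A (I₊).Cotangent]
    [Module.Finite A (I₊).Cotangent] (h0 : ∀ b : B, b ∈ 𝒜 0 ↔ b ∈ Set.range (algebraMap A B))
    (hinj : Function.Injective (algebraMap A B))
    (hsm : ∀ (P : Ideal B) [P.IsPrime], I₊ ≤ P → Algebra.IsSmoothAt A P) :
    Nonempty (B ≃ₐ[A] MvPolynomial (Fin (Module.finrank A (I₊).Cotangent)) A) := by
  classical
  rcases subsingleton_or_nontrivial A with hA | hA
  · haveI : Subsingleton B := Module.subsingleton A B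
    exact ⟨(AlgEquiv.ofBijective (MvPolynomial.aeval fun _ => (0 : B))
      ⟨fun _ _ _ => Subsingleton.elim _ _, fun _ => ⟨0, Subsingleton.elim _ _⟩⟩).symm⟩
  obtain ⟨G, hG, hGd⟩ := exists_generators 𝒜
  let bs := Module.finBasis A (I₊).Cotangent
  let ι₀ := Fin (Module.finrank A (I₊).Cotangent)
  let f : MvPolynomial ι₀ A →ₐ[A] B := MvPolynomial.aeval fun i => (G (bs i) : B)
  have hfX : ∀ i, f (X i) = (G (bs i) : B) := fun i => aeval_X _ i
  have hGrange : ∀ c, (G c : B) ∈ f.range := fun c => by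
    rw [← bs.sum_repr c, map_sum, AddSubmonoidClass.coe_finsetSum]
    refine Subalgebra.sum_mem _ fun i _ => ?_
    rw [map_smul]
    exact Subalgebra.smul_mem _ (⟨X i, hfX i⟩ : (G (bs i) : B) ∈ f.range) _
  have hsurj : Function.Surjective f := by
    have hd : ∀ d, ∀ b ∈ 𝒜 d, b ∈ f.range := by
      intro d
      induction d using Nat.strong_induction_on with
      | _ d ih =>
        intro b hb
        by_cases hd0 : d = 0
        · subst hd0
          obtain ⟨a, rfl⟩ := (h0 b).1 hb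
          exact Subalgebra.algebraMap_mem _ a
        have hbI : b ∈ I₊ := (mem_aug_iff 𝒜 b).2 (pr_of_mem_ne 𝒜 hb hd0)
        set g : B := (G ((I₊).toCotangent ⟨b, hbI⟩) : B)
        have hdiff : b - g ∈ I₊ ^ 2 := (Ideal.toCotangent_eq _ (x := ⟨b, hbI⟩)).1 (hG _).symm
        have hmem : b - g ∈ 𝒜 d := Submodule.sub_mem _ hb (hGd d hd0 b hbI hb)
        have : pr 𝒜 d (b - g) ∈ f.range := by
          rw [pow_two] at hdiff
          clear hmem
          generalize b - g = w at hdiff ⊢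
          induction hdiff using Submodule.mul_induction_on' with
          | mem_mul_mem x hx y hy =>
            exact pr_mul_mem 𝒜 (S := (Subalgebra.toSubmodule f.range).toAddSubmonoid) hx hy fun i j hi hj hij =>
              Subalgebra.mul_mem _ (ih i (by omega) _ (pr_mem 𝒜 i x)) (ih j (by omega) _ (pr_mem 𝒜 j y))
          | add x _ y _ hx hy => rw [map_add]; exact Subalgebra.add_mem _ hx hy
        rw [pr_of_mem 𝒜 hmem] at this
        have hsum := Subalgebra.add_mem _ this (hGrange ((I₊).toCotangent ⟨b, hbI⟩))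
        rwa [show b - g + (G ((I₊).toCotangent ⟨b, hbI⟩) : B) = b from sub_add_cancel b g] at hsum
    intro b
    obtain ⟨s, hs⟩ := exists_finset_sum 𝒜 b
    rw [hs]
    exact Subalgebra.sum_mem f.range fun d _ => hd d _ (pr_mem 𝒜 d b)
  let J : Ideal (MvPolynomial ι₀ A) := Ideal.span (Set.range X)
  have hC : ∀ p : MvPolynomial ι₀ A, p - C (constantCoeff p) ∈ J := fun p => by
    induction p using MvPolynomial.induction_on with
    | C a => simp
    | add p q hp hq => rw [map_add, map_add, add_sub_add_comm]; exact Submodule.add_mem _ hp hq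
    | mul_X p i _ => rw [map_mul, constantCoeff_X, mul_zero, map_zero, sub_zero]
                     exact Ideal.mul_mem_left _ _ (Ideal.subset_span ⟨i, rfl⟩)
  have hfJ : J ≤ (I₊).comap f := Ideal.span_le.2 fun _ ⟨i, hi⟩ => hi ▸ (by
    show f (X i) ∈ I₊
    rw [hfX]; exact (G (bs i)).2)
  have hconst : ∀ p, f p ∈ I₊ → constantCoeff p = 0 := fun p hp => by
    have h := Submodule.sub_mem _ hp (hfJ (hC p))
    rw [map_sub, sub_sub_cancel, show f (C (constantCoeff p)) = algebraMap A B (constantCoeff p) from aeval_C _ _,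
      mem_aug_iff, pr_of_mem 𝒜 ((h0 _).2 ⟨_, rfl⟩)] at h
    exact hinj (h.trans (map_zero _).symm)
  have hsq : ∀ p, f p ∈ I₊ ^ 2 → p ∈ J → p ∈ J * J := fun p hp hpJ => by
    obtain ⟨c, hc⟩ := Finsupp.mem_span_range_iff_exists_finsupp.1 (show p ∈ Submodule.span _ (Set.range X) from hpJ)
    let lin : MvPolynomial ι₀ A := ∑ i ∈ c.support, constantCoeff (c i) • X i
    have hlin : p - lin ∈ J * J := by
      rw [← hc, Finsupp.sum, ← Finset.sum_sub_distrib]
      refine Submodule.sum_mem _ fun i _ => ?_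
      rw [smul_eq_mul, smul_eq_C_mul, ← sub_mul]
      exact Ideal.mul_mem_mul (hC _) (Ideal.subset_span ⟨i, rfl⟩)
    have hfJJ : J * J ≤ (I₊ ^ 2).comap f := by
      rw [pow_two]; exact (Ideal.mul_mono hfJ hfJ).trans (Ideal.le_comap_mul f)
    have h2 : f lin ∈ I₊ ^ 2 := by
      have := Submodule.sub_mem _ hp (hfJJ hlin)
      rwa [map_sub, sub_sub_cancel] at this
    have h3 : (I₊).toCotangent (∑ i ∈ c.support, constantCoeff (c i) • G (bs i)) = 0 := by
      rw [Ideal.toCotangent_eq_zero]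
      convert h2 using 1
      simp only [lin, map_sum, map_smul, hfX, AddSubmonoidClass.coe_finsetSum, Submodule.coe_smul_of_tower]
    rw [map_sum, Finset.sum_congr rfl fun i _ => show (I₊).toCotangent (constantCoeff (c i) • G (bs i)) =
      constantCoeff (c i) • bs i by rw [LinearMap.map_smul_of_tower, hG]] at h3
    have h4 := linearIndependent_iff'.1 bs.linearIndependent _ _ h3
    have : lin = 0 := Finset.sum_eq_zero fun i hi => by rw [h4 i hi, zero_smul]
    simpa [this] using hlin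
  have hker : RingHom.ker f ≤ J * J := fun p hp => by
    have h0' := hconst p (by rw [show f p = 0 from hp]; exact zero_mem _)
    refine hsq p (by rw [show f p = 0 from hp]; exact zero_mem _) ?_
    simpa [h0'] using hC p
  have hinjf : Function.Injective f := by
    rw [injective_iff_map_eq_zero]
    intro x hx
    let Ann : Ideal (MvPolynomial ι₀ A) := LinearMap.ker (LinearMap.toSpanSingleton _ _ x)
    have htop : Ann ⊔ J = ⊤ := by
      by_contra hne
      obtain ⟨q, hq, hle⟩ := Ideal.exists_le_maximal _ hne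
      haveI := hq.isPrime
      obtain ⟨t, htq, ht⟩ := exists_mul_eq_zero f hsurj J hker q (le_sup_right.trans hle) (fun p _ hp => hsm p fun b hb => by
        obtain ⟨z, rfl⟩ := hsurj b
        have hz : z ∈ J := by simpa [hconst z hb] using hC z
        exact (show z ∈ p.comap f from hp ▸ hle (Submodule.mem_sup_right hz))) (show x ∈ RingHom.ker f from hx)
      exact htq (hle (Submodule.mem_sup_left (show t • x = 0 from ht)))
    obtain ⟨a, ha, j, hj, haj⟩ := Submodule.mem_sup.1 (show (1 : MvPolynomial ι₀ A) ∈ Ann ⊔ J from htop ▸ Submodule.mem_top)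
    refine eq_zero_of_mul_eq_zero (a := a) ?_ ha
    have : constantCoeff j = 0 := hconst j (hfJ hj)
    have h1 := congrArg constantCoeff haj
    rwa [map_add, this, add_zero, map_one] at h1
  exact ⟨(AlgEquiv.ofBijective f ⟨hinjf, hsurj⟩).symm⟩

end Groth.L15.BBDec
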