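import Mathlib.RingTheory.Smooth.Locus
import Mathlib.RingTheory.Nakayama
import Mathlib.RingTheory.MvPowerSeries.Inverse
import Mathlib.RingTheory.Localization.Ideal

/-! Injectivity criterion at a formally smooth section. -/

set_option autoImplicit false

namespace Groth.L15.BBDec

universe u

/-- If the target of a surjection is formally smooth and the kernel lies in `J²`, it lies in `J` times itself. -/
theorem ker_le_mul_ker {A P B : Type u} [CommRing A] [CommRing P] [CommRing B] [Algebra A P] [Algebra A B]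
    [Algebra.FormallySmooth A B] (f : P →ₐ[A] B) (hf : Function.Surjective f) (J : Ideal P)
    (hJ : RingHom.ker f ≤ J * J) : RingHom.ker f ≤ J * RingHom.ker f := by
  set K := RingHom.ker f with hK
  have hKJ : K ≤ J := hJ.trans Ideal.mul_le_left
  let π : P →ₐ[A] P ⧸ K * K := Ideal.Quotient.mkₐ A (K * K)
  let g : P ⧸ K * K →ₐ[A] B := Ideal.Quotient.liftₐ (K * K) f fun x hx =>
    RingHom.mem_ker.1 (Ideal.mul_le_left hx)
  have hg : Function.Surjective g := fun b => by obtain ⟨x, rfl⟩ := hf b; exact ⟨π x, rfl⟩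
  have hgker : ∀ z, g z = 0 → z ∈ K.map π := fun z hz => by
    obtain ⟨x, rfl⟩ := Ideal.Quotient.mk_surjective z
    exact Ideal.mem_map_of_mem _ (show x ∈ K from hz)
  have hnil : IsNilpotent (RingHom.ker (g : P ⧸ K * K →+* B)) := ⟨2, by
    rw [Ideal.zero_eq_bot, pow_two, eq_bot_iff]
    refine (Ideal.mul_mono (fun z hz => hgker z hz) (fun z hz => hgker z hz)).trans ?_
    rw [← Ideal.map_mul, Ideal.map_le_iff_le_comap]
    intro x hx
    exact Ideal.Quotient.eq_zero_iff_mem.2 hx⟩
  let σ := Algebra.FormallySmooth.liftOfSurjective (AlgHom.id A B) g hg hnil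
  have hσ : ∀ y, π y - σ (f y) ∈ K.map π := fun y => hgker _ (by
    rw [map_sub, show g (σ (f y)) = f y from Algebra.FormallySmooth.liftOfSurjective_apply (AlgHom.id A B) g hg hnil (f y)]
    exact sub_self _)
  have hKmap : K.map π ≤ J.map π := Ideal.map_mono hKJ
  intro x hx
  have key : π x - σ (f x) ∈ J.map π * K.map π := by
    have hxx : x ∈ J * J := hJ hx
    clear hx
    induction hxx using Submodule.mul_induction_on' with
    | mem_mul_mem y hy z hz =>
      have hz' : σ (f z) ∈ J.map π := by
        rw [← sub_sub_cancel (π z) (σ (f z))]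
        exact Submodule.sub_mem _ (Ideal.mem_map_of_mem _ hz) (hKmap (hσ z))
      have : π (y * z) - σ (f (y * z)) = π y * (π z - σ (f z)) + σ (f z) * (π y - σ (f y)) := by
        simp only [map_mul]; ring
      rw [this]
      exact Submodule.add_mem _ (Ideal.mul_mem_mul (Ideal.mem_map_of_mem _ hy) (hσ z)) (Ideal.mul_mem_mul hz' (hσ y))
    | add y _ z _ hy hz =>
      have : π (y + z) - σ (f (y + z)) = (π y - σ (f y)) + (π z - σ (f z)) := by simp only [map_add]; ring
      rw [this]
      exact Submodule.add_mem _ hy hz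
  rw [show f x = 0 from hx, map_zero, sub_zero, ← Ideal.map_mul] at key
  obtain ⟨y, hy, hyx⟩ := (Ideal.mem_map_iff_of_surjective π Ideal.Quotient.mk_surjective).1 key
  have hd : y - x ∈ K * K := Ideal.Quotient.eq.1 hyx
  have hle : K * K ≤ J * K := Ideal.mul_mono_left hKJ
  simpa using Submodule.sub_mem _ hy (hle hd)

/-- Elements of the kernel are killed off every prime over which the target is formally smooth. -/
theorem exists_mul_eq_zero {A P B : Type u} [CommRing A] [CommRing P] [CommRing B] [Algebra A P] [Algebra A B]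
    [IsNoetherianRing P] (f : P →ₐ[A] B) (hf : Function.Surjective f) (J : Ideal P)
    (hJ : RingHom.ker f ≤ J * J) (q : Ideal P) [q.IsPrime] (hq : J ≤ q)
    (hsm : ∀ p : Ideal B, ∀ [p.IsPrime], p.comap f = q → Algebra.IsSmoothAt A p)
    {x : P} (hx : x ∈ RingHom.ker f) : ∃ t ∉ q, t * x = 0 := by
  let p := q.map f
  have hKq : RingHom.ker f ≤ q := hJ.trans (Ideal.mul_le_left.trans hq)
  haveI : p.IsPrime := Ideal.map_isPrime_of_surjective hf hKq
  have hcomap : p.comap f = q := by
    refine le_antisymm (fun y hy => ?_) Ideal.le_comap_map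
    obtain ⟨z, hz, hzy⟩ := (Ideal.mem_map_iff_of_surjective f hf).1 hy
    have : y - z ∈ q := hKq (RingHom.mem_ker.2 (by rw [map_sub, hzy, sub_self]))
    simpa using Submodule.add_mem _ this hz
  haveI := hsm p hcomap
  let Pq := Localization.AtPrime q
  let Bp := Localization.AtPrime p
  have hmem : ∀ y : P, y ∉ q → f y ∈ p.primeCompl := fun y hy h => hy (by rw [← hcomap]; exact h)
  have hunit : ∀ y : q.primeCompl, IsUnit (((IsScalarTower.toAlgHom A B Bp).comp f) (y : P)) := fun y =>
    IsLocalization.map_units Bp ⟨f (y : P), hmem (y : P) y.2⟩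
  let F : Pq →ₐ[A] Bp := IsLocalization.liftAlgHom (M := q.primeCompl) hunit
  have hF : ∀ y : P, F (algebraMap P Pq y) = algebraMap B Bp (f y) := fun y => IsLocalization.lift_eq _ _
  have hu : ∀ s : q.primeCompl, IsUnit (algebraMap P Pq s) := IsLocalization.map_units Pq
  have hFsurj : Function.Surjective F := fun z => by
    obtain ⟨⟨b, s⟩, hbs⟩ := IsLocalization.surj p.primeCompl z
    obtain ⟨y, rfl⟩ := hf b
    obtain ⟨s', hs'⟩ := hf (s : B)
    have hs : s' ∈ q.primeCompl := fun h => s.2 (hs' ▸ (show s' ∈ p.comap f from hcomap ▸ h))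
    refine ⟨IsLocalization.mk' Pq y ⟨s', hs⟩, ?_⟩
    have h := congrArg F (IsLocalization.mk'_spec Pq y ⟨s', hs⟩)
    rw [map_mul, hF, hF, hs', ← hbs] at h
    exact (IsLocalization.map_units Bp s).mul_left_inj.1 h
  have hker : RingHom.ker F = (RingHom.ker f).map (algebraMap P Pq) := by
    refine le_antisymm (fun z hz => ?_) (Ideal.map_le_iff_le_comap.2 fun y hy => ?_)
    · obtain ⟨⟨y, s⟩, hys⟩ := IsLocalization.surj q.primeCompl z
      have h := congrArg F hys
      rw [map_mul, show F z = 0 from hz, zero_mul, hF] at h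
      obtain ⟨t, ht⟩ := (IsLocalization.map_eq_zero_iff p.primeCompl Bp (f y)).1 h.symm
      obtain ⟨t', ht'⟩ := hf (t : B)
      have hts : t' ∈ q.primeCompl := fun h => t.2 (ht' ▸ (show t' ∈ p.comap f from hcomap ▸ h))
      have hty : t' * y ∈ RingHom.ker f := by rw [RingHom.mem_ker, map_mul, ht', ht]
      have := Ideal.mem_map_of_mem (algebraMap P Pq) hty
      rw [map_mul, ← hys, Ideal.unit_mul_mem_iff_mem _ (hu ⟨t', hts⟩), Ideal.mul_unit_mem_iff_mem _ (hu s)] at this
      exact this
    · show algebraMap P Pq y ∈ RingHom.ker F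
      rw [RingHom.mem_ker, hF, show f y = 0 from hy, map_zero]
  have hJq : RingHom.ker F ≤ J.map (algebraMap P Pq) * J.map (algebraMap P Pq) := by
    rw [hker, ← Ideal.map_mul]; exact Ideal.map_mono hJ
  haveI : IsNoetherianRing Pq := IsLocalization.isNoetherianRing q.primeCompl Pq inferInstance
  have hle := ker_le_mul_ker F hFsurj _ hJq
  have hbot : RingHom.ker F = ⊥ := by
    refine Submodule.eq_bot_of_le_smul_of_le_jacobson_bot (J.map (algebraMap P Pq)) _ (IsNoetherian.noetherian _) hle ?_
    rw [IsLocalRing.jacobson_eq_maximalIdeal ⊥ bot_ne_top, ← Localization.AtPrime.map_eq_maximalIdeal]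
    exact Ideal.map_mono hq
  have : algebraMap P Pq x = 0 := by
    have := Ideal.mem_map_of_mem (algebraMap P Pq) hx
    rw [← hker, hbot] at this
    exact this
  obtain ⟨t, ht⟩ := (IsLocalization.map_eq_zero_iff q.primeCompl Pq x).1 this
  exact ⟨t, t.2, ht⟩

/-- A polynomial killed by one with constant term `1` is zero. -/
theorem eq_zero_of_mul_eq_zero {A : Type u} [CommRing A] {σ : Type*} {a x : MvPolynomial σ A}
    (ha : MvPolynomial.constantCoeff a = 1) (h : a * x = 0) : x = 0 := by
  apply MvPolynomial.coe_injective σ A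
  have hu : IsUnit (a : MvPowerSeries σ A) := by
    rw [MvPowerSeries.isUnit_iff_constantCoeff, ← MvPowerSeries.coeff_zero_eq_constantCoeff_apply,
      MvPolynomial.coeff_coe]
    show IsUnit (MvPolynomial.constantCoeff a)
    rw [ha]; exact isUnit_one
  rw [MvPolynomial.coe_zero]
  exact (hu.mul_right_eq_zero).1 (by rw [← MvPolynomial.coe_mul, h, MvPolynomial.coe_zero])

end Groth.L15.BBDec
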